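import Cfsg.Agent.Spor.Cert
import Cfsg.Agent.Spor.HLh.C0

set_option autoImplicit false
set_option maxRecDepth 100000000
set_option Elab.async false
set_option linter.unusedSectionVars false

namespace Cfsg.Agent.Spor.HLh

theorem hT : T.Ok 15 := T.ok_of 15 (show AllP (fun n => Net.okb 15 n = true) [n0, n1, n2, n3, n4, n5, n6, n7, n8, n9, n10, n11, n12] from AllP.cons ok0 (AllP.cons ok1 (AllP.cons ok2 (AllP.cons ok3 (AllP.cons ok4 (AllP.cons ok5 (AllP.cons ok6 (AllP.cons ok7 (AllP.cons ok8 (AllP.cons ok9 (AllP.cons ok10 (AllP.cons ok11 (AllP.cons ok12 (AllP.nil))))))))))))))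

noncomputable def fP : ℕ → Equiv.Perm ℕ := T.fP gs

theorem hsq : ∀ j < 13, j < 13 → T.fP gs j * T.fP gs j = 1 :=
  Tab.sq (show AllP (fun z => evA T.τ [z, z] = 1) [1, 2, 3, 4, 5, 6, 7, 8, 9, 10, 11, 12, 13] from AllP.cons (hT.one rel0) (AllP.cons (hT.one rel1) (AllP.cons (hT.one rel2) (AllP.cons (hT.one rel3) (AllP.cons (hT.one rel4) (AllP.cons (hT.one rel5) (AllP.cons (hT.one rel6) (AllP.cons (hT.one rel7) (AllP.cons (hT.one rel8) (AllP.cons (hT.one rel9) (AllP.cons (hT.one rel10) (AllP.cons (hT.one rel11) (AllP.cons (hT.one rel12) (AllP.nil)))))))))))))) 13 rfl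

theorem hiv : IvOk (2 * 13) (atm 13 (T.fP gs)) := ivOk_atm hsq

theorem pz1 : PZ T (atm 13 (T.fP gs)) EX 1 := PZ.of_atom (y := 2 * 0) (by decide +kernel) (atm_two_mul _ (by decide))
theorem pz2 : PZ T (atm 13 (T.fP gs)) EX 2 := PZ.of_atom (y := 2 * 1) (by decide +kernel) (atm_two_mul _ (by decide))
theorem pz3 : PZ T (atm 13 (T.fP gs)) EX 3 := PZ.of_atom (y := 2 * 2) (by decide +kernel) (atm_two_mul _ (by decide))
theorem pz4 : PZ T (atm 13 (T.fP gs)) EX 4 := PZ.of_atom (y := 2 * 3) (by decide +kernel) (atm_two_mul _ (by decide))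
theorem pz5 : PZ T (atm 13 (T.fP gs)) EX 5 := PZ.of_atom (y := 2 * 4) (by decide +kernel) (atm_two_mul _ (by decide))
theorem pz6 : PZ T (atm 13 (T.fP gs)) EX 6 := PZ.of_atom (y := 2 * 5) (by decide +kernel) (atm_two_mul _ (by decide))
theorem pz7 : PZ T (atm 13 (T.fP gs)) EX 7 := PZ.of_atom (y := 2 * 6) (by decide +kernel) (atm_two_mul _ (by decide))
theorem pz8 : PZ T (atm 13 (T.fP gs)) EX 8 := PZ.of_atom (y := 2 * 7) (by decide +kernel) (atm_two_mul _ (by decide))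
theorem pz9 : PZ T (atm 13 (T.fP gs)) EX 9 := PZ.of_atom (y := 2 * 8) (by decide +kernel) (atm_two_mul _ (by decide))
theorem pz10 : PZ T (atm 13 (T.fP gs)) EX 10 := PZ.of_atom (y := 2 * 9) (by decide +kernel) (atm_two_mul _ (by decide))
theorem pz11 : PZ T (atm 13 (T.fP gs)) EX 11 := PZ.of_atom (y := 2 * 10) (by decide +kernel) (atm_two_mul _ (by decide))
theorem pz12 : PZ T (atm 13 (T.fP gs)) EX 12 := PZ.of_atom (y := 2 * 11) (by decide +kernel) (atm_two_mul _ (by decide))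
theorem pz13 : PZ T (atm 13 (T.fP gs)) EX 13 := PZ.of_atom (y := 2 * 12) (by decide +kernel) (atm_two_mul _ (by decide))
theorem hPZ : AllP (PZ T (atm 13 (T.fP gs)) EX) L :=
  show AllP (PZ T (atm 13 (T.fP gs)) EX) [1, 2, 3, 4, 5, 6, 7, 8, 9, 10, 11, 12, 13] from AllP.cons pz1 (AllP.cons pz2 (AllP.cons pz3 (AllP.cons pz4 (AllP.cons pz5 (AllP.cons pz6 (AllP.cons pz7 (AllP.cons pz8 (AllP.cons pz9 (AllP.cons pz10 (AllP.cons pz11 (AllP.cons pz12 (AllP.cons pz13 (AllP.nil)))))))))))))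

theorem hrel : ∀ l ∈ RL, ev (atm 13 (T.fP gs)) l = 1 :=
  relAll_sound hiv (W := [[2, 1, 2, 1], [3, 1, 3, 1], [4, 1, 4, 1], [2, 5, 1, 5, 1], [3, 6, 1, 6, 1], [4, 7, 1, 7, 1], [8, 1, 8, 1], [9, 1, 9, 1], [10, 1, 10, 1], [3, 2, 3, 2], [4, 2, 4, 2], [5, 2, 5, 2], [6, 2, 6, 2], [7, 2, 7, 2], [3, 8, 2, 8, 2], [4, 9, 2, 9, 2], [10, 2, 10, 2], [4, 3, 4, 3], [5, 3, 5, 3], [6, 3, 6, 3], [7, 3, 7, 3], [8, 3, 8, 3], [9, 3, 9, 3], [4, 10, 3, 10, 3], [5, 4, 5, 4], [6, 4, 6, 4], [7, 4, 7, 4], [8, 4, 8, 4], [9, 4, 9, 4], [10, 4, 10, 4], [6, 5, 6, 5], [7, 5, 7, 5], [6, 8, 5, 8, 5], [7, 9, 5, 9, 5], [10, 5, 10, 5], [7, 6, 7, 6], [8, 6, 8, 6], [9, 6, 9, 6], [7, 10, 6, 10, 6], [8, 7, 8, 7], [9, 7, 9, 7], [10, 7, 10, 7], [9, 8, 9, 8], [9, 10, 8, 10, 8], [10, 9, 10, 9], [2, 11, 1, 11], [3, 11, 3, 11], [4, 11, 4, 11], [5, 11, 5, 11, 5, 11], [8, 11, 6, 11],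 [9, 11, 7, 11], [10, 11, 10, 11], [1, 12, 1, 12], [3, 12, 2, 12], [4, 12, 4, 12], [6, 12, 5, 12], [7, 12, 7, 12], [8, 12, 8, 12, 8, 12], [10, 12, 9, 12], [12, 11, 12, 11, 12, 11], [9, 8, 4, 3, 1, 13, 1, 13], [7, 6, 4, 3, 2, 13, 2, 13], [4, 13, 3, 13], [4, 3, 5, 13, 5, 13], [7, 13, 6, 13], [9, 13, 8, 13], [10, 13, 10, 13, 10, 13], [4, 3, 11, 13, 11, 13], [7, 4, 6, 5, 12, 13, 12, 13, 12, 13, 12, 13, 12, 13]]) (rules := [⟨[2, 1, 2, 1], [], 0, true⟩, ⟨[3, 1, 3, 1], [], 1, true⟩, ⟨[4, 1, 4, 1], [], 2, true⟩, ⟨[2, 5, 1, 5, 1], [], 3, true⟩, ⟨[3, 6, 1, 6, 1], [], 4, true⟩, ⟨[4, 7, 1, 7, 1], [], 5, true⟩, ⟨[8, 1, 8, 1], [], 6, true⟩, ⟨[9, 1, 9, 1], [], 7, true⟩, ⟨[10, 1, 10, 1], [], 8, true⟩, ⟨[3, 2, 3, 2], [], 9, true⟩, ⟨[4, 2, 4, 2], [], 10, true⟩, ⟨[5, 2, 5, 2], [], 11, true⟩, ⟨[6, 2, 6, 2], [], 12, true⟩, ⟨[7, 2, 7, 2], [], 13, true⟩, ⟨[3,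 8, 2, 8, 2], [], 14, true⟩, ⟨[4, 9, 2, 9, 2], [], 15, true⟩, ⟨[10, 2, 10, 2], [], 16, true⟩, ⟨[4, 3, 4, 3], [], 17, true⟩, ⟨[5, 3, 5, 3], [], 18, true⟩, ⟨[6, 3, 6, 3], [], 19, true⟩, ⟨[7, 3, 7, 3], [], 20, true⟩, ⟨[8, 3, 8, 3], [], 21, true⟩, ⟨[9, 3, 9, 3], [], 22, true⟩, ⟨[4, 10, 3, 10, 3], [], 23, true⟩, ⟨[5, 4, 5, 4], [], 24, true⟩, ⟨[6, 4, 6, 4], [], 25, true⟩, ⟨[7, 4, 7, 4], [], 26, true⟩, ⟨[8, 4, 8, 4], [], 27, true⟩, ⟨[9, 4, 9, 4], [], 28, true⟩, ⟨[10, 4, 10, 4], [], 29, true⟩, ⟨[6, 5, 6, 5], [], 30, true⟩, ⟨[7, 5, 7, 5], [], 31, true⟩, ⟨[6, 8, 5, 8, 5], [], 32, true⟩, ⟨[7, 9, 5, 9, 5], [], 33, true⟩, ⟨[10, 5, 10, 5], [], 34, true⟩, ⟨[7, 6, 7, 6], [], 35, true⟩, ⟨[8, 6, 8, 6], [], 36, true⟩, ⟨[9, 6, 9, 6], [], 37, true⟩, ⟨[7, 10, 6, 10, 6], [], 38, true⟩, ⟨[8, 7, 8, 7], [], 39, true⟩, ⟨[9, 7, 9, 7], [], 40, true⟩, ⟨[10, 7, 10,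 7], [], 41, true⟩, ⟨[9, 8, 9, 8], [], 42, true⟩, ⟨[9, 10, 8, 10, 8], [], 43, true⟩, ⟨[10, 9, 10, 9], [], 44, true⟩, ⟨[2, 11, 1, 11], [], 45, true⟩, ⟨[3, 11, 3, 11], [], 46, true⟩, ⟨[4, 11, 4, 11], [], 47, true⟩, ⟨[5, 11, 5, 11, 5, 11], [], 48, true⟩, ⟨[8, 11, 6, 11], [], 49, true⟩, ⟨[9, 11, 7, 11], [], 50, true⟩, ⟨[10, 11, 10, 11], [], 51, true⟩, ⟨[1, 12, 1, 12], [], 52, true⟩, ⟨[3, 12, 2, 12], [], 53, true⟩, ⟨[4, 12, 4, 12], [], 54, true⟩, ⟨[6, 12, 5, 12], [], 55, true⟩, ⟨[7, 12, 7, 12], [], 56, true⟩, ⟨[8, 12, 8, 12, 8, 12], [], 57, true⟩, ⟨[10, 12, 9, 12], [], 58, true⟩, ⟨[12, 11, 12, 11, 12, 11], [], 59, true⟩, ⟨[9, 8, 4, 3, 1, 13, 1, 13], [], 60, true⟩, ⟨[7, 6, 4, 3, 2, 13, 2, 13], [], 61, true⟩, ⟨[4, 13, 3, 13], [], 62, true⟩, ⟨[4, 3, 5, 13, 5, 13], [], 63, true⟩, ⟨[7, 13, 6, 13], [], 64, true⟩, ⟨[9, 13, 8, 13], [], 65, true⟩,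 ⟨[10, 13, 10, 13, 10, 13], [], 66, true⟩, ⟨[4, 3, 11, 13, 11, 13], [], 67, true⟩, ⟨[7, 4, 6, 5, 12, 13, 12, 13, 12, 13, 12, 13, 12, 13], [], 68, true⟩]) hPZ (AllP.cons (hT.one rel13) (AllP.cons (hT.one rel14) (AllP.cons (hT.one rel15) (AllP.cons (hT.one rel16) (AllP.cons (hT.one rel17) (AllP.cons (hT.one rel18) (AllP.cons (hT.one rel19) (AllP.cons (hT.one rel20) (AllP.cons (hT.one rel21) (AllP.cons (hT.one rel22) (AllP.cons (hT.one rel23) (AllP.cons (hT.one rel24) (AllP.cons (hT.one rel25) (AllP.cons (hT.one rel26) (AllP.cons (hT.one rel27) (AllP.cons (hT.one rel28) (AllP.cons (hT.one rel29) (AllP.cons (hT.one rel30) (AllP.cons (hT.one rel31) (AllP.cons (hT.one rel32) (AllP.cons (hT.one rel33) (AllP.cons (hT.one rel34) (AllP.cons (hT.one rel35) (AllP.cons (hT.one rel36) (AllP.cons (hT.one rel37) (AllP.cons (hT.one rel38) (AllP.cons (hT.one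 rel39) (AllP.cons (hT.one rel40) (AllP.cons (hT.one rel41) (AllP.cons (hT.one rel42) (AllP.cons (hT.one rel43) (AllP.cons (hT.one rel44) (AllP.cons (hT.one rel45) (AllP.cons (hT.one rel46) (AllP.cons (hT.one rel47) (AllP.cons (hT.one rel48) (AllP.cons (hT.one rel49) (AllP.cons (hT.one rel50) (AllP.cons (hT.one rel51) (AllP.cons (hT.one rel52) (AllP.cons (hT.one rel53) (AllP.cons (hT.one rel54) (AllP.cons (hT.one rel55) (AllP.cons (hT.one rel56) (AllP.cons (hT.one rel57) (AllP.cons (hT.one rel58) (AllP.cons (hT.one rel59) (AllP.cons (hT.one rel60) (AllP.cons (hT.one rel61) (AllP.cons (hT.one rel62) (AllP.cons (hT.one rel63) (AllP.cons (hT.one rel64) (AllP.cons (hT.one rel65) (AllP.cons (hT.one rel66) (AllP.cons (hT.one rel67) (AllP.cons (hT.one rel68) (AllP.cons (hT.one rel69) (AllP.cons (hT.one rel70) (AllP.cons (hT.one rel71) (AllP.cons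 (hT.one rel72) (AllP.cons (hT.one rel73) (AllP.cons (hT.one rel74) (AllP.cons (hT.one rel75) (AllP.cons (hT.one rel76) (AllP.cons (hT.one rel77) (AllP.cons (hT.one rel78) (AllP.cons (hT.one rel79) (AllP.cons (hT.one rel80) (AllP.cons (hT.one rel81) (AllP.nil)))))))))))))))))))))))))))))))))))))))))))))))))))))))))))))))))))))) (by decide +kernel)

theorem xrel : ∀ l ∈ XL, ev (atm 13 (T.fP gs)) l = 1 :=
  relAll_sound hiv (W := [[7, 3, 7, 3], [11, 12, 13, 11, 7, 3, 11, 13, 12, 11, 11, 12, 13, 11, 7, 3, 11, 13, 12, 11], [10, 13, 5, 11, 7, 3, 11, 5, 13, 10, 10, 13, 5, 11, 7, 3, 11, 5, 13, 10], [12, 8, 13, 8, 12, 12, 8, 13, 8, 12], [9, 9], [4, 9, 4, 9], [13, 11, 12, 13, 12, 10, 13, 12, 10, 13, 1, 13, 10, 12, 13, 10, 12, 13, 12, 11, 13, 13, 11, 12, 13, 12, 10, 13, 12, 10, 13, 1, 13, 10, 12, 13, 10, 12, 13, 12, 11, 13], [11, 12, 13, 11, 7,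 3, 11, 13, 12, 11, 7, 3, 11, 12, 13, 11, 7, 3, 11, 13, 12, 11, 7, 3, 11, 12, 13, 11, 7, 3, 11, 13, 12, 11, 7, 3, 11, 12, 13, 11, 7, 3, 11, 13, 12, 11, 7, 3], [10, 13, 5, 11, 7, 3, 11, 5, 13, 10, 7, 3, 10, 13, 5, 11, 7, 3, 11, 5, 13, 10, 7, 3], [12, 8, 13, 8, 12, 7, 3, 12, 8, 13, 8, 12, 7, 3], [9, 7, 3, 9, 7, 3], [4, 9, 7, 3, 4, 9, 7, 3], [13, 11, 12, 13, 12, 10, 13, 12, 10, 13, 1, 13, 10, 12, 13, 10, 12, 13, 12, 11, 13, 7, 3, 13, 11, 12, 13, 12, 10, 13, 12, 10, 13, 1, 13, 10, 12, 13, 10, 12, 13, 12, 11, 13, 7, 3], [10, 13, 5, 11, 7, 3, 11, 5, 13, 10, 11, 12, 13, 11, 7, 3, 11, 13, 12, 11, 10, 13, 5, 11, 7, 3, 11, 5, 13, 10, 11, 12, 13, 11, 7, 3, 11, 13, 12, 11, 10, 13, 5, 11, 7, 3, 11, 5, 13, 10, 11, 12, 13, 11, 7, 3, 11, 13, 12, 11], [12, 8, 13, 8, 12, 11, 12, 13, 11, 7, 3, 11, 13, 12, 11, 12, 8, 13, 8, 12, 11, 12, 13, 11, 7, 3, 11,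 13, 12, 11], [9, 11, 12, 13, 11, 7, 3, 11, 13, 12, 11, 9, 11, 12, 13, 11, 7, 3, 11, 13, 12, 11], [4, 9, 11, 12, 13, 11, 7, 3, 11, 13, 12, 11, 4, 9, 11, 12, 13, 11, 7, 3, 11, 13, 12, 11], [13, 11, 12, 13, 12, 10, 13, 12, 10, 13, 1, 13, 10, 12, 13, 10, 12, 13, 12, 11, 13, 11, 12, 13, 11, 7, 3, 11, 13, 12, 11, 13, 11, 12, 13, 12, 10, 13, 12, 10, 13, 1, 13, 10, 12, 13, 10, 12, 13, 12, 11, 13, 11, 12, 13, 11, 7, 3, 11, 13, 12, 11], [12, 8, 13, 8, 12, 10, 13, 5, 11, 7, 3, 11, 5, 13, 10, 12, 8, 13, 8, 12, 10, 13, 5, 11, 7, 3, 11, 5, 13, 10, 12, 8, 13, 8, 12, 10, 13, 5, 11, 7, 3, 11, 5, 13, 10, 12, 8, 13, 8, 12, 10, 13, 5, 11, 7, 3, 11, 5, 13, 10, 12, 8, 13, 8, 12, 10, 13, 5, 11, 7, 3, 11, 5, 13, 10, 12, 8, 13, 8, 12, 10, 13, 5, 11, 7, 3, 11, 5, 13, 10, 12, 8, 13, 8, 12, 10, 13, 5, 11, 7, 3, 11, 5, 13, 10, 12, 8, 13, 8, 12, 10, 13, 5, 11, 7,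 3, 11, 5, 13, 10, 12, 8, 13, 8, 12, 10, 13, 5, 11, 7, 3, 11, 5, 13, 10, 12, 8, 13, 8, 12, 10, 13, 5, 11, 7, 3, 11, 5, 13, 10], [9, 10, 13, 5, 11, 7, 3, 11, 5, 13, 10, 9, 10, 13, 5, 11, 7, 3, 11, 5, 13, 10], [4, 9, 10, 13, 5, 11, 7, 3, 11, 5, 13, 10, 4, 9, 10, 13, 5, 11, 7, 3, 11, 5, 13, 10], [13, 11, 12, 13, 12, 10, 13, 12, 10, 13, 1, 13, 10, 12, 13, 10, 12, 13, 12, 11, 13, 10, 13, 5, 11, 7, 3, 11, 5, 13, 10, 13, 11, 12, 13, 12, 10, 13, 12, 10, 13, 1, 13, 10, 12, 13, 10, 12, 13, 12, 11, 13, 10, 13, 5, 11, 7, 3, 11, 5, 13, 10], [9, 12, 8, 13, 8, 12, 9, 12, 8, 13, 8, 12, 9, 12, 8, 13, 8, 12], [4, 9, 12, 8, 13, 8, 12, 4, 9, 12, 8, 13, 8, 12, 4, 9, 12, 8, 13, 8, 12], [13, 11, 12, 13, 12, 10, 13, 12, 10, 13, 1, 13, 10, 12, 13, 10, 12, 13, 12, 11, 13, 12, 8, 13, 8, 12, 13, 11, 12, 13, 12, 10, 13, 12, 10, 13, 1, 13, 10, 12, 13, 10, 12, 13,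 12, 11, 13, 12, 8, 13, 8, 12, 13, 11, 12, 13, 12, 10, 13, 12, 10, 13, 1, 13, 10, 12, 13, 10, 12, 13, 12, 11, 13, 12, 8, 13, 8, 12], [4, 9, 9, 4, 9, 9], [13, 11, 12, 13, 12, 10, 13, 12, 10, 13, 1, 13, 10, 12, 13, 10, 12, 13, 12, 11, 13, 9, 13, 11, 12, 13, 12, 10, 13, 12, 10, 13, 1, 13, 10, 12, 13, 10, 12, 13, 12, 11, 13, 9], [13, 11, 12, 13, 12, 10, 13, 12, 10, 13, 1, 13, 10, 12, 13, 10, 12, 13, 12, 11, 13, 4, 9, 13, 11, 12, 13, 12, 10, 13, 12, 10, 13, 1, 13, 10, 12, 13, 10, 12, 13, 12, 11, 13, 4, 9, 13, 11, 12, 13, 12, 10, 13, 12, 10, 13, 1, 13, 10, 12, 13, 10, 12, 13, 12, 11, 13, 4, 9, 13, 11, 12, 13, 12, 10, 13, 12, 10, 13, 1, 13, 10, 12, 13, 10, 12, 13, 12, 11, 13, 4, 9], [4, 9, 13, 11, 12, 13, 12, 10, 13, 12, 10, 13, 1, 13, 10, 12, 13, 10, 12, 13, 12, 11, 13, 4, 9, 13, 11, 12, 13, 12, 10, 13, 12, 10, 13, 1, 13, 10, 12, 13, 10, 12,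 13, 12, 11, 13, 9], [7, 3, 11, 12, 13, 11, 7, 3, 11, 13, 12, 11, 10, 13, 5, 11, 7, 3, 11, 5, 13, 10, 7, 3, 11, 12, 13, 11, 7, 3, 11, 13, 12, 11, 10, 13, 5, 11, 7, 3, 11, 5, 13, 10, 7, 3, 11, 12, 13, 11, 7, 3, 11, 13, 12, 11, 10, 13, 5, 11, 7, 3, 11, 5, 13, 10, 9], [10, 13, 5, 11, 7, 3, 11, 5, 13, 10, 12, 8, 13, 8, 12, 10, 13, 5, 11, 7, 3, 11, 5, 13, 10, 12, 8, 13, 8, 12, 10, 13, 5, 11, 7, 3, 11, 5, 13, 10, 12, 8, 13, 8, 12, 10, 13, 5, 11, 7, 3, 11, 5, 13, 10, 12, 8, 13, 8, 12, 10, 13, 5, 11, 7, 3, 11, 5, 13, 10, 12, 8, 13, 8, 12, 7, 3], [13, 11, 12, 13, 12, 10, 13, 12, 10, 13, 1, 13, 10, 12, 13, 10, 12, 13, 12, 11, 13, 4, 9, 12, 8, 13, 8, 12, 10, 13, 5, 11, 7, 3, 11, 5, 13, 10, 13, 11, 12, 13, 12, 10, 13, 12, 10, 13, 1, 13, 10, 12, 13, 10, 12, 13, 12, 11, 13, 4, 9, 12, 8, 13, 8, 12, 10, 13, 5, 11, 7, 3, 11, 5, 13, 10, 13, 11, 12, 13,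 12, 10, 13, 12, 10, 13, 1, 13, 10, 12, 13, 10, 12, 13, 12, 11, 13, 4, 9, 12, 8, 13, 8, 12, 10, 13, 5, 11, 7, 3, 11, 5, 13, 10, 13, 11, 12, 13, 12, 10, 13, 12, 10, 13, 1, 13, 10, 12, 13, 10, 12, 13, 12, 11, 13, 4, 9, 12, 8, 13, 8, 12, 10, 13, 5, 11, 7, 3, 11, 5, 13, 10]]) (rules := [⟨[7, 3, 7, 3], [], 0, true⟩, ⟨[11, 12, 13, 11, 7, 3, 11, 13, 12, 11, 11, 12, 13, 11, 7, 3, 11, 13, 12, 11], [], 1, true⟩, ⟨[10, 13, 5, 11, 7, 3, 11, 5, 13, 10, 10, 13, 5, 11, 7, 3, 11, 5, 13, 10], [], 2, true⟩, ⟨[12, 8, 13, 8, 12, 12, 8, 13, 8, 12], [], 3, true⟩, ⟨[9, 9], [], 4, true⟩, ⟨[4, 9, 4, 9], [], 5, true⟩, ⟨[13, 11, 12, 13, 12, 10, 13, 12, 10, 13, 1, 13, 10, 12, 13, 10, 12, 13, 12, 11, 13, 13, 11, 12, 13, 12, 10, 13, 12, 10, 13, 1, 13, 10, 12, 13, 10, 12, 13, 12, 11, 13], [], 6, true⟩, ⟨[11, 12, 13, 11, 7, 3, 11, 13, 12, 11, 7, 3, 11, 12, 13, 11, 7,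 3, 11, 13, 12, 11, 7, 3, 11, 12, 13, 11, 7, 3, 11, 13, 12, 11, 7, 3, 11, 12, 13, 11, 7, 3, 11, 13, 12, 11, 7, 3], [], 7, true⟩, ⟨[10, 13, 5, 11, 7, 3, 11, 5, 13, 10, 7, 3, 10, 13, 5, 11, 7, 3, 11, 5, 13, 10, 7, 3], [], 8, true⟩, ⟨[12, 8, 13, 8, 12, 7, 3, 12, 8, 13, 8, 12, 7, 3], [], 9, true⟩, ⟨[9, 7, 3, 9, 7, 3], [], 10, true⟩, ⟨[4, 9, 7, 3, 4, 9, 7, 3], [], 11, true⟩, ⟨[13, 11, 12, 13, 12, 10, 13, 12, 10, 13, 1, 13, 10, 12, 13, 10, 12, 13, 12, 11, 13, 7, 3, 13, 11, 12, 13, 12, 10, 13, 12, 10, 13, 1, 13, 10, 12, 13, 10, 12, 13, 12, 11, 13, 7, 3], [], 12, true⟩, ⟨[10, 13, 5, 11, 7, 3, 11, 5, 13, 10, 11, 12, 13, 11, 7, 3, 11, 13, 12, 11, 10, 13, 5, 11, 7, 3, 11, 5, 13, 10, 11, 12, 13, 11, 7, 3, 11, 13, 12, 11, 10, 13, 5, 11, 7, 3, 11, 5, 13, 10, 11, 12, 13, 11, 7, 3, 11, 13, 12, 11], [], 13, true⟩, ⟨[12, 8, 13, 8, 12, 11, 12, 13, 11, 7,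 3, 11, 13, 12, 11, 12, 8, 13, 8, 12, 11, 12, 13, 11, 7, 3, 11, 13, 12, 11], [], 14, true⟩, ⟨[9, 11, 12, 13, 11, 7, 3, 11, 13, 12, 11, 9, 11, 12, 13, 11, 7, 3, 11, 13, 12, 11], [], 15, true⟩, ⟨[4, 9, 11, 12, 13, 11, 7, 3, 11, 13, 12, 11, 4, 9, 11, 12, 13, 11, 7, 3, 11, 13, 12, 11], [], 16, true⟩, ⟨[13, 11, 12, 13, 12, 10, 13, 12, 10, 13, 1, 13, 10, 12, 13, 10, 12, 13, 12, 11, 13, 11, 12, 13, 11, 7, 3, 11, 13, 12, 11, 13, 11, 12, 13, 12, 10, 13, 12, 10, 13, 1, 13, 10, 12, 13, 10, 12, 13, 12, 11, 13, 11, 12, 13, 11, 7, 3, 11, 13, 12, 11], [], 17, true⟩, ⟨[12, 8, 13, 8, 12, 10, 13, 5, 11, 7, 3, 11, 5, 13, 10, 12, 8, 13, 8, 12, 10, 13, 5, 11, 7, 3, 11, 5, 13, 10, 12, 8, 13, 8, 12, 10, 13, 5, 11, 7, 3, 11, 5, 13, 10, 12, 8, 13, 8, 12, 10, 13, 5, 11, 7, 3, 11, 5, 13, 10, 12, 8, 13, 8, 12, 10, 13, 5, 11, 7, 3, 11, 5, 13, 10, 12, 8, 13, 8, 12,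 10, 13, 5, 11, 7, 3, 11, 5, 13, 10, 12, 8, 13, 8, 12, 10, 13, 5, 11, 7, 3, 11, 5, 13, 10, 12, 8, 13, 8, 12, 10, 13, 5, 11, 7, 3, 11, 5, 13, 10, 12, 8, 13, 8, 12, 10, 13, 5, 11, 7, 3, 11, 5, 13, 10, 12, 8, 13, 8, 12, 10, 13, 5, 11, 7, 3, 11, 5, 13, 10], [], 18, true⟩, ⟨[9, 10, 13, 5, 11, 7, 3, 11, 5, 13, 10, 9, 10, 13, 5, 11, 7, 3, 11, 5, 13, 10], [], 19, true⟩, ⟨[4, 9, 10, 13, 5, 11, 7, 3, 11, 5, 13, 10, 4, 9, 10, 13, 5, 11, 7, 3, 11, 5, 13, 10], [], 20, true⟩, ⟨[13, 11, 12, 13, 12, 10, 13, 12, 10, 13, 1, 13, 10, 12, 13, 10, 12, 13, 12, 11, 13, 10, 13, 5, 11, 7, 3, 11, 5, 13, 10, 13, 11, 12, 13, 12, 10, 13, 12, 10, 13, 1, 13, 10, 12, 13, 10, 12, 13, 12, 11, 13, 10, 13, 5, 11, 7, 3, 11, 5, 13, 10], [], 21, true⟩, ⟨[9, 12, 8, 13, 8, 12, 9, 12, 8, 13, 8, 12, 9, 12, 8, 13, 8, 12], [], 22, true⟩, ⟨[4, 9, 12, 8, 13, 8, 12, 4, 9, 12, 8, 13,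 8, 12, 4, 9, 12, 8, 13, 8, 12], [], 23, true⟩, ⟨[13, 11, 12, 13, 12, 10, 13, 12, 10, 13, 1, 13, 10, 12, 13, 10, 12, 13, 12, 11, 13, 12, 8, 13, 8, 12, 13, 11, 12, 13, 12, 10, 13, 12, 10, 13, 1, 13, 10, 12, 13, 10, 12, 13, 12, 11, 13, 12, 8, 13, 8, 12, 13, 11, 12, 13, 12, 10, 13, 12, 10, 13, 1, 13, 10, 12, 13, 10, 12, 13, 12, 11, 13, 12, 8, 13, 8, 12], [], 24, true⟩, ⟨[4, 9, 9, 4, 9, 9], [], 25, true⟩, ⟨[13, 11, 12, 13, 12, 10, 13, 12, 10, 13, 1, 13, 10, 12, 13, 10, 12, 13, 12, 11, 13, 9, 13, 11, 12, 13, 12, 10, 13, 12, 10, 13, 1, 13, 10, 12, 13, 10, 12, 13, 12, 11, 13, 9], [], 26, true⟩, ⟨[13, 11, 12, 13, 12, 10, 13, 12, 10, 13, 1, 13, 10, 12, 13, 10, 12, 13, 12, 11, 13, 4, 9, 13, 11, 12, 13, 12, 10, 13, 12, 10, 13, 1, 13, 10, 12, 13, 10, 12, 13, 12, 11, 13, 4, 9, 13, 11, 12, 13, 12, 10, 13, 12, 10, 13, 1, 13, 10, 12, 13, 10, 12, 13,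 12, 11, 13, 4, 9, 13, 11, 12, 13, 12, 10, 13, 12, 10, 13, 1, 13, 10, 12, 13, 10, 12, 13, 12, 11, 13, 4, 9], [], 27, true⟩, ⟨[4, 9, 13, 11, 12, 13, 12, 10, 13, 12, 10, 13, 1, 13, 10, 12, 13, 10, 12, 13, 12, 11, 13, 4, 9, 13, 11, 12, 13, 12, 10, 13, 12, 10, 13, 1, 13, 10, 12, 13, 10, 12, 13, 12, 11, 13, 9], [], 28, true⟩, ⟨[7, 3, 11, 12, 13, 11, 7, 3, 11, 13, 12, 11, 10, 13, 5, 11, 7, 3, 11, 5, 13, 10, 7, 3, 11, 12, 13, 11, 7, 3, 11, 13, 12, 11, 10, 13, 5, 11, 7, 3, 11, 5, 13, 10, 7, 3, 11, 12, 13, 11, 7, 3, 11, 13, 12, 11, 10, 13, 5, 11, 7, 3, 11, 5, 13, 10, 9], [], 29, true⟩, ⟨[10, 13, 5, 11, 7, 3, 11, 5, 13, 10, 12, 8, 13, 8, 12, 10, 13, 5, 11, 7, 3, 11, 5, 13, 10, 12, 8, 13, 8, 12, 10, 13, 5, 11, 7, 3, 11, 5, 13, 10, 12, 8, 13, 8, 12, 10, 13, 5, 11, 7, 3, 11, 5, 13, 10, 12, 8, 13, 8, 12, 10, 13, 5, 11, 7, 3, 11, 5, 13, 10, 12, 8, 13,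 8, 12, 7, 3], [], 30, true⟩, ⟨[13, 11, 12, 13, 12, 10, 13, 12, 10, 13, 1, 13, 10, 12, 13, 10, 12, 13, 12, 11, 13, 4, 9, 12, 8, 13, 8, 12, 10, 13, 5, 11, 7, 3, 11, 5, 13, 10, 13, 11, 12, 13, 12, 10, 13, 12, 10, 13, 1, 13, 10, 12, 13, 10, 12, 13, 12, 11, 13, 4, 9, 12, 8, 13, 8, 12, 10, 13, 5, 11, 7, 3, 11, 5, 13, 10, 13, 11, 12, 13, 12, 10, 13, 12, 10, 13, 1, 13, 10, 12, 13, 10, 12, 13, 12, 11, 13, 4, 9, 12, 8, 13, 8, 12, 10, 13, 5, 11, 7, 3, 11, 5, 13, 10, 13, 11, 12, 13, 12, 10, 13, 12, 10, 13, 1, 13, 10, 12, 13, 10, 12, 13, 12, 11, 13, 4, 9, 12, 8, 13, 8, 12, 10, 13, 5, 11, 7, 3, 11, 5, 13, 10], [], 31, true⟩]) hPZ (AllP.cons (hT.one rel33) (AllP.cons (hT.one rel82) (AllP.cons (hT.one rel83) (AllP.cons (hT.one rel84) (AllP.cons (hT.one rel8) (AllP.cons (hT.one rel85) (AllP.cons (hT.one rel86) (AllP.cons (hT.one rel87) (AllP.cons (hT.one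 rel88) (AllP.cons (hT.one rel89) (AllP.cons (hT.one rel90) (AllP.cons (hT.one rel91) (AllP.cons (hT.one rel92) (AllP.cons (hT.one rel93) (AllP.cons (hT.one rel94) (AllP.cons (hT.one rel95) (AllP.cons (hT.one rel96) (AllP.cons (hT.one rel97) (AllP.cons (hT.one_of (PlaneFix.trans (hT.rel rel98_0) (hT.rel rel98_10))) (AllP.cons (hT.one rel99) (AllP.cons (hT.one rel100) (AllP.cons (hT.one rel101) (AllP.cons (hT.one rel102) (AllP.cons (hT.one rel103) (AllP.cons (hT.one rel104) (AllP.cons (hT.one rel105) (AllP.cons (hT.one rel106) (AllP.cons (hT.one rel107) (AllP.cons (hT.one rel108) (AllP.cons (hT.one rel109) (AllP.cons (hT.one rel110) (AllP.cons (hT.one_of (PlaneFix.trans (hT.rel rel111_0) (hT.rel rel111_10))) (AllP.nil))))))))))))))))))))))))))))))))) (by decide +kernel)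

section
variable {G : Type} [Group G] {a : ℕ → G} (hi : IvOk (2 * 13) a) (hR : ∀ r ∈ RL, ev a r = 1)
  {H : Subgroup G} (hb : ∀ z ∈ base, letV a EX z ∈ H)
include hi hR hb

theorem let1 : LetOk H (letV a EX) T L 1 :=
  LetOk.of hT tl1 cov1 (AllP.cons (Just.rot hT hi hR rot1_1 rot1_1r) (AllP.cons (Just.rot hT hi hR rot1_2 rot1_2r) (AllP.cons (Just.rot hT hi hR rot1_3 rot1_3r) (AllP.cons (Just.rot hT hi hR rot1_4 rot1_4r) (AllP.cons (Just.rot hT hi hR rot1_5 rot1_5r) (AllP.cons (Just.rot hT hi hR rot1_6 rot1_6r) (AllP.cons (Just.rot hT hi hR rot1_7 rot1_7r) (AllP.cons (Just.rot hT hi hR rot1_8 rot1_8r) (AllP.cons (Just.rot hT hi hR rot1_9 rot1_9r) (AllP.cons (Just.rot hT hi hR rot1_10 rot1_10r) (AllP.cons (Just.rot hT hi hR rot1_11 rot1_11r) (AllP.cons (Just.rot hT hi hR rot1_12 rot1_12r) (AllP.cons (Just.rot hT hi hR rot1_13 rot1_13r)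 (AllP.cons (Just.rot hT hi hR rot1_14 rot1_14r) (AllP.cons (Just.rot hT hi hR rot1_15 rot1_15r) (AllP.cons (Just.rot hT hi hR rot1_16 rot1_16r) (AllP.cons (Just.rot hT hi hR rot1_17 rot1_17r) (AllP.cons (Just.rot hT hi hR rot1_18 rot1_18r) (AllP.cons (Just.rot hT hi hR rot1_19 rot1_19r) (AllP.cons (Just.rot hT hi hR rot1_20 rot1_20r) (AllP.cons (Just.rot hT hi hR rot1_21 rot1_21r) (AllP.cons (Just.rot hT hi hR rot1_22 rot1_22r) (AllP.cons (Just.rot hT hi hR rot1_23 rot1_23r) (AllP.cons (Just.rot hT hi hR rot1_24 rot1_24r) (AllP.cons (Just.rot hT hi hR rot1_25 rot1_25r) (AllP.cons (Just.base (hb 1 (by decide))) (AllP.nil)))))))))))))))))))))))))))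
theorem let2 : LetOk H (letV a EX) T L 2 :=
  LetOk.of hT tl2 cov2 (AllP.cons (Just.rot hT hi hR rot2_1 rot2_1r) (AllP.cons (Just.rot hT hi hR rot2_2 rot2_2r) (AllP.cons (Just.rot hT hi hR rot2_3 rot2_3r) (AllP.cons (Just.rot hT hi hR rot2_4 rot2_4r) (AllP.cons (Just.rot hT hi hR rot2_5 rot2_5r) (AllP.cons (Just.rot hT hi hR rot2_6 rot2_6r) (AllP.cons (Just.rot hT hi hR rot2_7 rot2_7r) (AllP.cons (Just.rot hT hi hR rot2_8 rot2_8r) (AllP.cons (Just.rot hT hi hR rot2_9 rot2_9r) (AllP.cons (Just.rot hT hi hR rot2_10 rot2_10r) (AllP.cons (Just.rot hT hi hR rot2_11 rot2_11r) (AllP.cons (Just.rot hT hi hR rot2_12 rot2_12r) (AllP.cons (Just.rot hT hi hR rot2_13 rot2_13r) (AllP.cons (Just.rot hT hi hR rot2_14 rot2_14r) (AllP.cons (Just.rot hT hi hR rot2_15 rot2_15r) (AllP.cons (Just.rot hT hi hR rot2_16 rot2_16r) (AllP.cons (Just.rot hT hi hR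 rot2_17 rot2_17r) (AllP.cons (Just.rot hT hi hR rot2_18 rot2_18r) (AllP.cons (Just.rot hT hi hR rot2_19 rot2_19r) (AllP.cons (Just.rot hT hi hR rot2_20 rot2_20r) (AllP.cons (Just.rot hT hi hR rot2_21 rot2_21r) (AllP.cons (Just.rot hT hi hR rot2_22 rot2_22r) (AllP.cons (Just.rot hT hi hR rot2_23 rot2_23r) (AllP.cons (Just.rot hT hi hR rot2_24 rot2_24r) (AllP.cons (Just.base (hb 2 (by decide))) (AllP.nil))))))))))))))))))))))))))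
theorem let3 : LetOk H (letV a EX) T L 3 :=
  LetOk.of hT tl3 cov3 (AllP.cons (Just.rot hT hi hR rot3_1 rot3_1r) (AllP.cons (Just.rot hT hi hR rot3_2 rot3_2r) (AllP.cons (Just.rot hT hi hR rot3_3 rot3_3r) (AllP.cons (Just.rot hT hi hR rot3_4 rot3_4r) (AllP.cons (Just.rot hT hi hR rot3_5 rot3_5r) (AllP.cons (Just.rot hT hi hR rot3_6 rot3_6r) (AllP.cons (Just.rot hT hi hR rot3_7 rot3_7r) (AllP.cons (Just.rot hT hi hR rot3_8 rot3_8r) (AllP.cons (Just.rot hT hi hR rot3_9 rot3_9r) (AllP.cons (Just.rot hT hi hR rot3_10 rot3_10r) (AllP.cons (Just.rot hT hi hR rot3_11 rot3_11r) (AllP.cons (Just.rot hT hi hR rot3_12 rot3_12r) (AllP.cons (Just.rot hT hi hR rot3_13 rot3_13r) (AllP.cons (Just.rot hT hi hR rot3_14 rot3_14r) (AllP.cons (Just.rot hT hi hR rot3_15 rot3_15r) (AllP.cons (Just.rot hT hi hR rot3_16 rot3_16r) (AllP.cons (Just.rot hT hi hR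 rot3_17 rot3_17r) (AllP.cons (Just.rot hT hi hR rot3_18 rot3_18r) (AllP.cons (Just.rot hT hi hR rot3_19 rot3_19r) (AllP.cons (Just.rot hT hi hR rot3_20 rot3_20r) (AllP.cons (Just.rot hT hi hR rot3_21 rot3_21r) (AllP.cons (Just.rot hT hi hR rot3_22 rot3_22r) (AllP.cons (Just.rot hT hi hR rot3_23 rot3_23r) (AllP.cons (Just.rot hT hi hR rot3_24 rot3_24r) (AllP.cons (Just.rot hT hi hR rot3_25 rot3_25r) (AllP.cons (Just.rot hT hi hR rot3_26 rot3_26r) (AllP.cons (Just.rot hT hi hR rot3_27 rot3_27r) (AllP.cons (Just.rot hT hi hR rot3_28 rot3_28r) (AllP.cons (Just.base (hb 3 (by decide))) (AllP.nil))))))))))))))))))))))))))))))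
theorem let4 : LetOk H (letV a EX) T L 4 :=
  LetOk.of' hT tl4 cov4 (AllP.cons (Just.rot hT hi hR rot4_1 rot4_1r) (AllP.cons (Just.rot hT hi hR rot4_2 rot4_2r) (AllP.cons (Just.rot hT hi hR rot4_3 rot4_3r) (AllP.cons (Just.rot hT hi hR rot4_4 rot4_4r) (AllP.cons (Just.rot hT hi hR rot4_5 rot4_5r) (AllP.cons (Just.rot hT hi hR rot4_6 rot4_6r) (AllP.cons (Just.rot hT hi hR rot4_7 rot4_7r) (AllP.cons (Just.rot hT hi hR rot4_8 rot4_8r) (AllP.cons (Just.rot hT hi hR rot4_9 rot4_9r) (AllP.cons (Just.rot hT hi hR rot4_10 rot4_10r) (AllP.cons (Just.rot hT hi hR rot4_11 rot4_11r) (AllP.cons (Just.rot hT hi hR rot4_12 rot4_12r) (AllP.cons (Just.rot hT hi hR rot4_13 rot4_13r) (AllP.cons (Just.rot hT hi hR rot4_14 rot4_14r) (AllP.cons (Just.rot hT hi hR rot4_15 rot4_15r) (AllP.cons (Just.rot hT hi hR rot4_16 rot4_16r) (AllP.cons (Just.rot hT hi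 hR rot4_17 rot4_17r) (AllP.cons (Just.rot hT hi hR rot4_18 rot4_18r) (AllP.cons (Just.rot hT hi hR rot4_19 rot4_19r) (AllP.cons (Just.rot hT hi hR rot4_20 rot4_20r) (AllP.cons (Just.rot hT hi hR rot4_21 rot4_21r) (AllP.cons (Just.rot hT hi hR rot4_22 rot4_22r) (AllP.cons (Just.rot hT hi hR rot4_23 rot4_23r) (AllP.cons (Just.rot hT hi hR rot4_24 rot4_24r) (AllP.cons (Just.rot hT hi hR rot4_25 rot4_25r) (AllP.cons (Just.rot hT hi hR rot4_26 rot4_26r) (AllP.cons (Just.rot hT hi hR rot4_27 rot4_27r) (AllP.cons (Just.rot hT hi hR rot4_28 rot4_28r) (AllP.cons (Just.base (hb 4 (by decide))) (AllP.nil))))))))))))))))))))))))))))))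
theorem let5 : LetOk H (letV a EX) T L 5 :=
  LetOk.of hT tl5 cov5 (AllP.cons (Just.rot hT hi hR rot5_1 rot5_1r) (AllP.cons (Just.rot hT hi hR rot5_2 rot5_2r) (AllP.cons (Just.rot hT hi hR rot5_3 rot5_3r) (AllP.cons (Just.rot hT hi hR rot5_4 rot5_4r) (AllP.cons (Just.rot hT hi hR rot5_5 rot5_5r) (AllP.cons (Just.rot hT hi hR rot5_6 rot5_6r) (AllP.cons (Just.rot hT hi hR rot5_7 rot5_7r) (AllP.cons (Just.rot hT hi hR rot5_8 rot5_8r) (AllP.cons (Just.rot hT hi hR rot5_9 rot5_9r) (AllP.cons (Just.rot hT hi hR rot5_10 rot5_10r) (AllP.cons (Just.rot hT hi hR rot5_11 rot5_11r) (AllP.cons (Just.rot hT hi hR rot5_12 rot5_12r) (AllP.cons (Just.rot hT hi hR rot5_13 rot5_13r) (AllP.cons (Just.rot hT hi hR rot5_14 rot5_14r) (AllP.cons (Just.rot hT hi hR rot5_15 rot5_15r) (AllP.cons (Just.rot hT hi hR rot5_16 rot5_16r) (AllP.cons (Just.rot hT hi hR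 rot5_17 rot5_17r) (AllP.cons (Just.rot hT hi hR rot5_18 rot5_18r) (AllP.cons (Just.rot hT hi hR rot5_19 rot5_19r) (AllP.cons (Just.rot hT hi hR rot5_20 rot5_20r) (AllP.cons (Just.rot hT hi hR rot5_21 rot5_21r) (AllP.cons (Just.rot hT hi hR rot5_22 rot5_22r) (AllP.cons (Just.rot hT hi hR rot5_23 rot5_23r) (AllP.cons (Just.rot hT hi hR rot5_24 rot5_24r) (AllP.cons (Just.rot hT hi hR rot5_25 rot5_25r) (AllP.cons (Just.rot hT hi hR rot5_26 rot5_26r) (AllP.cons (Just.rot hT hi hR rot5_27 rot5_27r) (AllP.cons (Just.base (hb 5 (by decide))) (AllP.nil)))))))))))))))))))))))))))))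
theorem let6 : LetOk H (letV a EX) T L 6 :=
  LetOk.of hT tl6 cov6 (AllP.cons (Just.rot hT hi hR rot6_1 rot6_1r) (AllP.cons (Just.rot hT hi hR rot6_2 rot6_2r) (AllP.cons (Just.rot hT hi hR rot6_3 rot6_3r) (AllP.cons (Just.rot hT hi hR rot6_4 rot6_4r) (AllP.cons (Just.rot hT hi hR rot6_5 rot6_5r) (AllP.cons (Just.rot hT hi hR rot6_6 rot6_6r) (AllP.cons (Just.rot hT hi hR rot6_7 rot6_7r) (AllP.cons (Just.rot hT hi hR rot6_8 rot6_8r) (AllP.cons (Just.rot hT hi hR rot6_9 rot6_9r) (AllP.cons (Just.rot hT hi hR rot6_10 rot6_10r) (AllP.cons (Just.rot hT hi hR rot6_11 rot6_11r) (AllP.cons (Just.rot hT hi hR rot6_12 rot6_12r) (AllP.cons (Just.rot hT hi hR rot6_13 rot6_13r) (AllP.cons (Just.rot hT hi hR rot6_14 rot6_14r) (AllP.cons (Just.rot hT hi hR rot6_15 rot6_15r) (AllP.cons (Just.rot hT hi hR rot6_16 rot6_16r) (AllP.cons (Just.rot hT hi hR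 rot6_17 rot6_17r) (AllP.cons (Just.rot hT hi hR rot6_18 rot6_18r) (AllP.cons (Just.rot hT hi hR rot6_19 rot6_19r) (AllP.cons (Just.rot hT hi hR rot6_20 rot6_20r) (AllP.cons (Just.rot hT hi hR rot6_21 rot6_21r) (AllP.cons (Just.rot hT hi hR rot6_22 rot6_22r) (AllP.cons (Just.rot hT hi hR rot6_23 rot6_23r) (AllP.cons (Just.rot hT hi hR rot6_24 rot6_24r) (AllP.cons (Just.rot hT hi hR rot6_25 rot6_25r) (AllP.cons (Just.base (hb 6 (by decide))) (AllP.nil)))))))))))))))))))))))))))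
theorem let7 : LetOk H (letV a EX) T L 7 :=
  LetOk.of hT tl7 cov7 (AllP.cons (Just.rot hT hi hR rot7_1 rot7_1r) (AllP.cons (Just.rot hT hi hR rot7_2 rot7_2r) (AllP.cons (Just.rot hT hi hR rot7_3 rot7_3r) (AllP.cons (Just.rot hT hi hR rot7_4 rot7_4r) (AllP.cons (Just.rot hT hi hR rot7_5 rot7_5r) (AllP.cons (Just.rot hT hi hR rot7_6 rot7_6r) (AllP.cons (Just.rot hT hi hR rot7_7 rot7_7r) (AllP.cons (Just.rot hT hi hR rot7_8 rot7_8r) (AllP.cons (Just.rot hT hi hR rot7_9 rot7_9r) (AllP.cons (Just.rot hT hi hR rot7_10 rot7_10r) (AllP.cons (Just.rot hT hi hR rot7_11 rot7_11r) (AllP.cons (Just.rot hT hi hR rot7_12 rot7_12r) (AllP.cons (Just.rot hT hi hR rot7_13 rot7_13r) (AllP.cons (Just.rot hT hi hR rot7_14 rot7_14r) (AllP.cons (Just.rot hT hi hR rot7_15 rot7_15r) (AllP.cons (Just.rot hT hi hR rot7_16 rot7_16r) (AllP.cons (Just.rot hT hi hR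 rot7_17 rot7_17r) (AllP.cons (Just.rot hT hi hR rot7_18 rot7_18r) (AllP.cons (Just.rot hT hi hR rot7_19 rot7_19r) (AllP.cons (Just.rot hT hi hR rot7_20 rot7_20r) (AllP.cons (Just.rot hT hi hR rot7_21 rot7_21r) (AllP.cons (Just.rot hT hi hR rot7_22 rot7_22r) (AllP.cons (Just.rot hT hi hR rot7_23 rot7_23r) (AllP.cons (Just.rot hT hi hR rot7_24 rot7_24r) (AllP.cons (Just.base (hb 7 (by decide))) (AllP.nil))))))))))))))))))))))))))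
theorem let8 : LetOk H (letV a EX) T L 8 :=
  LetOk.of hT tl8 cov8 (AllP.cons (Just.rot hT hi hR rot8_1 rot8_1r) (AllP.cons (Just.rot hT hi hR rot8_2 rot8_2r) (AllP.cons (Just.rot hT hi hR rot8_3 rot8_3r) (AllP.cons (Just.rot hT hi hR rot8_4 rot8_4r) (AllP.cons (Just.rot hT hi hR rot8_5 rot8_5r) (AllP.cons (Just.rot hT hi hR rot8_6 rot8_6r) (AllP.cons (Just.rot hT hi hR rot8_7 rot8_7r) (AllP.cons (Just.rot hT hi hR rot8_8 rot8_8r) (AllP.cons (Just.rot hT hi hR rot8_9 rot8_9r) (AllP.cons (Just.rot hT hi hR rot8_10 rot8_10r) (AllP.cons (Just.rot hT hi hR rot8_11 rot8_11r) (AllP.cons (Just.rot hT hi hR rot8_12 rot8_12r) (AllP.cons (Just.rot hT hi hR rot8_13 rot8_13r) (AllP.cons (Just.rot hT hi hR rot8_14 rot8_14r) (AllP.cons (Just.rot hT hi hR rot8_15 rot8_15r) (AllP.cons (Just.rot hT hi hR rot8_16 rot8_16r) (AllP.cons (Just.rot hT hi hR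 rot8_17 rot8_17r) (AllP.cons (Just.rot hT hi hR rot8_18 rot8_18r) (AllP.cons (Just.rot hT hi hR rot8_19 rot8_19r) (AllP.cons (Just.rot hT hi hR rot8_20 rot8_20r) (AllP.cons (Just.rot hT hi hR rot8_21 rot8_21r) (AllP.cons (Just.rot hT hi hR rot8_22 rot8_22r) (AllP.cons (Just.rot hT hi hR rot8_23 rot8_23r) (AllP.cons (Just.rot hT hi hR rot8_24 rot8_24r) (AllP.cons (Just.base (hb 8 (by decide))) (AllP.nil))))))))))))))))))))))))))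
theorem let9 : LetOk H (letV a EX) T L 9 :=
  LetOk.of hT tl9 cov9 (AllP.cons (Just.rot hT hi hR rot9_1 rot9_1r) (AllP.cons (Just.rot hT hi hR rot9_2 rot9_2r) (AllP.cons (Just.rot hT hi hR rot9_3 rot9_3r) (AllP.cons (Just.rot hT hi hR rot9_4 rot9_4r) (AllP.cons (Just.rot hT hi hR rot9_5 rot9_5r) (AllP.cons (Just.rot hT hi hR rot9_6 rot9_6r) (AllP.cons (Just.rot hT hi hR rot9_7 rot9_7r) (AllP.cons (Just.rot hT hi hR rot9_8 rot9_8r) (AllP.cons (Just.rot hT hi hR rot9_9 rot9_9r) (AllP.cons (Just.rot hT hi hR rot9_10 rot9_10r) (AllP.cons (Just.rot hT hi hR rot9_11 rot9_11r) (AllP.cons (Just.rot hT hi hR rot9_12 rot9_12r) (AllP.cons (Just.rot hT hi hR rot9_13 rot9_13r) (AllP.cons (Just.rot hT hi hR rot9_14 rot9_14r) (AllP.cons (Just.rot hT hi hR rot9_15 rot9_15r) (AllP.cons (Just.rot hT hi hR rot9_16 rot9_16r) (AllP.cons (Just.rot hT hi hR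 rot9_17 rot9_17r) (AllP.cons (Just.rot hT hi hR rot9_18 rot9_18r) (AllP.cons (Just.rot hT hi hR rot9_19 rot9_19r) (AllP.cons (Just.rot hT hi hR rot9_20 rot9_20r) (AllP.cons (Just.rot hT hi hR rot9_21 rot9_21r) (AllP.cons (Just.rot hT hi hR rot9_22 rot9_22r) (AllP.cons (Just.rot hT hi hR rot9_23 rot9_23r) (AllP.cons (Just.base (hb 9 (by decide))) (AllP.nil)))))))))))))))))))))))))
theorem let10 : LetOk H (letV a EX) T L 10 :=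
  LetOk.of hT tl10 cov10 (AllP.cons (Just.rot hT hi hR rot10_1 rot10_1r) (AllP.cons (Just.rot hT hi hR rot10_2 rot10_2r) (AllP.cons (Just.rot hT hi hR rot10_3 rot10_3r) (AllP.cons (Just.rot hT hi hR rot10_4 rot10_4r) (AllP.cons (Just.rot hT hi hR rot10_5 rot10_5r) (AllP.cons (Just.rot hT hi hR rot10_6 rot10_6r) (AllP.cons (Just.rot hT hi hR rot10_7 rot10_7r) (AllP.cons (Just.rot hT hi hR rot10_8 rot10_8r) (AllP.cons (Just.rot hT hi hR rot10_9 rot10_9r) (AllP.cons (Just.rot hT hi hR rot10_10 rot10_10r) (AllP.cons (Just.rot hT hi hR rot10_11 rot10_11r) (AllP.cons (Just.rot hT hi hR rot10_12 rot10_12r) (AllP.cons (Just.rot hT hi hR rot10_13 rot10_13r) (AllP.cons (Just.rot hT hi hR rot10_14 rot10_14r) (AllP.cons (Just.rot hT hi hR rot10_15 rot10_15r) (AllP.cons (Just.rot hT hi hR rot10_16 rot10_16r) (AllP.cons (Just.rot hT hi hR rot10_17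 rot10_17r) (AllP.cons (Just.rot hT hi hR rot10_18 rot10_18r) (AllP.cons (Just.rot hT hi hR rot10_19 rot10_19r) (AllP.cons (Just.rot hT hi hR rot10_20 rot10_20r) (AllP.cons (Just.rot hT hi hR rot10_21 rot10_21r) (AllP.cons (Just.rot hT hi hR rot10_22 rot10_22r) (AllP.cons (Just.base (hb 10 (by decide))) (AllP.nil))))))))))))))))))))))))
theorem let11 : LetOk H (letV a EX) T L 11 :=
  LetOk.of hT tl11 cov11 (AllP.cons (Just.rot hT hi hR rot11_1 rot11_1r) (AllP.cons (Just.rot hT hi hR rot11_2 rot11_2r) (AllP.cons (Just.rot hT hi hR rot11_3 rot11_3r) (AllP.cons (Just.rot hT hi hR rot11_4 rot11_4r) (AllP.cons (Just.rot hT hi hR rot11_5 rot11_5r) (AllP.cons (Just.rot hT hi hR rot11_6 rot11_6r) (AllP.cons (Just.rot hT hi hR rot11_7 rot11_7r) (AllP.cons (Just.rot hT hi hR rot11_8 rot11_8r) (AllP.cons (Just.rot hT hi hR rot11_9 rot11_9r) (AllP.cons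 (Just.rot hT hi hR rot11_10 rot11_10r) (AllP.cons (Just.rot hT hi hR rot11_11 rot11_11r) (AllP.cons (Just.rot hT hi hR rot11_12 rot11_12r) (AllP.cons (Just.rot hT hi hR rot11_13 rot11_13r) (AllP.cons (Just.rot hT hi hR rot11_14 rot11_14r) (AllP.cons (Just.rot hT hi hR rot11_15 rot11_15r) (AllP.cons (Just.rot hT hi hR rot11_16 rot11_16r) (AllP.nil)))))))))))))))))
theorem let12 : LetOk H (letV a EX) T L 12 :=
  LetOk.of hT tl12 cov12 (AllP.cons (Just.rot hT hi hR rot12_1 rot12_1r) (AllP.cons (Just.rot hT hi hR rot12_2 rot12_2r) (AllP.cons (Just.rot hT hi hR rot12_3 rot12_3r) (AllP.cons (Just.rot hT hi hR rot12_4 rot12_4r) (AllP.cons (Just.rot hT hi hR rot12_5 rot12_5r) (AllP.cons (Just.rot hT hi hR rot12_6 rot12_6r) (AllP.cons (Just.rot hT hi hR rot12_7 rot12_7r) (AllP.cons (Just.rot hT hi hR rot12_8 rot12_8r) (AllP.cons (Just.rot hT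 hi hR rot12_9 rot12_9r) (AllP.cons (Just.rot hT hi hR rot12_10 rot12_10r) (AllP.cons (Just.rot hT hi hR rot12_11 rot12_11r) (AllP.cons (Just.rot hT hi hR rot12_12 rot12_12r) (AllP.cons (Just.rot hT hi hR rot12_13 rot12_13r) (AllP.cons (Just.rot hT hi hR rot12_14 rot12_14r) (AllP.cons (Just.rot hT hi hR rot12_15 rot12_15r) (AllP.cons (Just.rot hT hi hR rot12_16 rot12_16r) (AllP.cons (Just.rot hT hi hR rot12_17 rot12_17r) (AllP.cons (Just.rot hT hi hR rot12_18 rot12_18r) (AllP.cons (Just.rot hT hi hR rot12_19 rot12_19r) (AllP.cons (Just.rot hT hi hR rot12_20 rot12_20r) (AllP.cons (Just.rot hT hi hR rot12_21 rot12_21r) (AllP.cons (Just.rot hT hi hR rot12_22 rot12_22r) (AllP.cons (Just.base (hb 12 (by decide))) (AllP.nil))))))))))))))))))))))))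
theorem let13 : LetOk H (letV a EX) T L 13 :=
  LetOk.of hT tl13 cov13 (AllP.cons (Just.rot hT hi hR rot13_1 rot13_1r) (AllP.cons (Just.rot hT hi hR rot13_2 rot13_2r) (AllP.cons (Just.rot hT hi hR rot13_3 rot13_3r) (AllP.cons (Just.rot hT hi hR rot13_4 rot13_4r) (AllP.cons (Just.rot hT hi hR rot13_5 rot13_5r) (AllP.cons (Just.rot hT hi hR rot13_6 rot13_6r) (AllP.cons (Just.rot hT hi hR rot13_7 rot13_7r) (AllP.cons (Just.rot hT hi hR rot13_8 rot13_8r) (AllP.cons (Just.rot hT hi hR rot13_9 rot13_9r) (AllP.cons (Just.rot hT hi hR rot13_10 rot13_10r) (AllP.cons (Just.rot hT hi hR rot13_11 rot13_11r) (AllP.cons (Just.rot hT hi hR rot13_12 rot13_12r) (AllP.cons (Just.rot hT hi hR rot13_13 rot13_13r) (AllP.cons (Just.rot hT hi hR rot13_14 rot13_14r) (AllP.cons (Just.rot hT hi hR rot13_15 rot13_15r) (AllP.cons (Just.rot hT hi hR rot13_16 rot13_16r)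 (AllP.cons (Just.rot hT hi hR rot13_17 rot13_17r) (AllP.cons (Just.rot hT hi hR rot13_18 rot13_18r) (AllP.cons (Just.rot hT hi hR rot13_19 rot13_19r) (AllP.cons (Just.rot hT hi hR rot13_20 rot13_20r) (AllP.cons (Just.rot hT hi hR rot13_21 rot13_21r) (AllP.cons (Just.rot hT hi hR rot13_22 rot13_22r) (AllP.cons (Just.rot hT hi hR rot13_23 rot13_23r) (AllP.cons (Just.rot hT hi hR rot13_24 rot13_24r) (AllP.cons (Just.rot hT hi hR rot13_25 rot13_25r) (AllP.cons (Just.rot hT hi hR rot13_26 rot13_26r) (AllP.cons (Just.rot hT hi hR rot13_27 rot13_27r) (AllP.cons (Just.rot hT hi hR rot13_28 rot13_28r) (AllP.cons (Just.rot hT hi hR rot13_29 rot13_29r) (AllP.cons (Just.rot hT hi hR rot13_30 rot13_30r) (AllP.cons (Just.rot hT hi hR rot13_31 rot13_31r) (AllP.cons (Just.rot hT hi hR rot13_32 rot13_32r) (AllP.cons (Just.rot hT hi hR rot13_33 rot13_33r)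 (AllP.cons (Just.rot hT hi hR rot13_34 rot13_34r) (AllP.cons (Just.base (hb 13 (by decide))) (AllP.nil))))))))))))))))))))))))))))))))))))
theorem hlet : AllP (LetOk H (letV a EX) T L) L :=
  show AllP (LetOk H (letV a EX) T L) [1, 2, 3, 4, 5, 6, 7, 8, 9, 10, 11, 12, 13] from AllP.cons (let1 hi hR hb) (AllP.cons (let2 hi hR hb) (AllP.cons (let3 hi hR hb) (AllP.cons (let4 hi hR hb) (AllP.cons (let5 hi hR hb) (AllP.cons (let6 hi hR hb) (AllP.cons (let7 hi hR hb) (AllP.cons (let8 hi hR hb) (AllP.cons (let9 hi hR hb) (AllP.cons (let10 hi hR hb) (AllP.cons (let11 hi hR hb) (AllP.cons (let12 hi hR hb) (AllP.cons (let13 hi hR hb) (AllP.nil)))))))))))))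
end

theorem cert : Cert 13 13 RL BW fP 29155 :=
  Cert.of hT ⟨hsq, hrel⟩ hPZ (fun _ _ _ hi hR _ hb => hlet hi hR hb) hcov hg (by decide +kernel)

end Cfsg.Agent.Spor.HLh
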